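import Groth.Prelude.Def_W4c4lgringredgrpLG
import Mathlib

/-! Local-global rings. -/

set_option autoImplicit false

open MvPolynomial TensorProduct Matrix

universe u v w

namespace Groth.Agent.LGRingLib

variable {R : Type u} [CommRing R]

theorem exists_isUnit_eval (hR : LGRing.IsLGRing R) {σ : Type} [Finite σ] (f : MvPolynomial σ R)
    (h : ∀ (m : Ideal R) [m.IsMaximal], ∃ x : σ → R, eval x f ∉ m) :
    ∃ x : σ → R, IsUnit (eval x f) := by
  let e := Finite.equivFin σ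
  obtain ⟨s, hs⟩ := hR (Nat.card σ) (rename e f) fun m _ ↦ by
    obtain ⟨x, hx⟩ := h m
    refine ⟨fun i ↦ Ideal.Quotient.mk m (x (e.symm i)), ?_⟩
    let : Field (R ⧸ m) := Ideal.Quotient.field m
    have hval : aeval (fun i ↦ Ideal.Quotient.mk m (x (e.symm i))) (rename e f) =
        Ideal.Quotient.mk m (eval x f) := by
      rw [aeval_rename]
      simp only [Function.comp_def, Equiv.symm_apply_apply]
      exact aeval_algebraMap_apply (R ⧸ m) x f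
    rw [hval]
    exact IsUnit.mk0 _ (by rwa [ne_eq, Ideal.Quotient.eq_zero_iff_mem])
  refine ⟨s ∘ e, ?_⟩
  rwa [aeval_rename] at hs

theorem exists_span_eval_eq_top (hR : LGRing.IsLGRing R) {σ ι : Type} [Finite σ] [Fintype ι]
    (f : ι → MvPolynomial σ R)
    (h : ∀ (m : Ideal R) [m.IsMaximal], ∃ (x : σ → R) (i : ι), eval x (f i) ∉ m) :
    ∃ x : σ → R, Ideal.span (Set.range fun i ↦ eval x (f i)) = ⊤ := by
  classical
  obtain ⟨z, hz⟩ := exists_isUnit_eval hR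
    (∑ i, X (Sum.inr i) * rename Sum.inl (f i) : MvPolynomial (σ ⊕ ι) R) fun m _ ↦ by
    obtain ⟨x, i, hi⟩ := h m
    refine ⟨Sum.elim x fun j ↦ if j = i then 1 else 0, ?_⟩
    rw [map_sum, Finset.sum_eq_single i (fun j _ hj ↦ by simp [hj]) (by simp)]
    simpa [eval_rename] using hi
  refine ⟨z ∘ Sum.inl, Ideal.eq_top_of_isUnit_mem _ ?_ hz⟩
  rw [map_sum]
  refine Ideal.sum_mem _ fun i _ ↦ ?_
  rw [map_mul, eval_rename]
  exact Ideal.mul_mem_left _ _ (Ideal.subset_span ⟨i, rfl⟩)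

theorem apply_mem_of_one_tmul_eq_zero {M : Type v} [AddCommGroup M] [Module R M] {m : Ideal R}
    (g : M →ₗ[R] R) {y : M} (hy : (1 : R ⧸ m) ⊗ₜ[R] y = 0) : g y ∈ m := by
  have := congrArg ((TensorProduct.rid R (R ⧸ m)).toLinearMap ∘ₗ g.lTensor (R ⧸ m)) hy
  simp [Algebra.smul_def] at this
  exact Ideal.Quotient.eq_zero_iff_mem.mp this

/-- Isomorphism modulo every maximal ideal implies isomorphism. -/
theorem nonempty_linearEquiv_of_mod_maximal (hR : LGRing.IsLGRing R) (M₁ : Type v) (M₂ : Type w)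
    [AddCommGroup M₁] [Module R M₁] [Module.Finite R M₁] [Module.Projective R M₁]
    [AddCommGroup M₂] [Module R M₂] [Module.Finite R M₂] [Module.Projective R M₂]
    (h : ∀ (m : Ideal R) [m.IsMaximal], ∃ (φ : M₁ →ₗ[R] M₂) (w : M₂ →ₗ[R] M₁),
      (∀ x, (1 : R ⧸ m) ⊗ₜ[R] (φ (w x) - x) = 0) ∧ ∀ x, (1 : R ⧸ m) ⊗ₜ[R] (w (φ x) - x) = 0) :
    Nonempty (M₁ ≃ₗ[R] M₂) := by
  classical
  obtain ⟨a₁, p₁, i₁, -, -, hpi₁⟩ := Module.Finite.exists_comp_eq_id_of_projective R M₁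
  obtain ⟨a₂, p₂, i₂, -, -, hpi₂⟩ := Module.Finite.exists_comp_eq_id_of_projective R M₂
  have h1 : ∀ x, p₁ (i₁ x) = x := fun x ↦ LinearMap.congr_fun hpi₁ x
  have h2 : ∀ x, p₂ (i₂ x) = x := fun x ↦ LinearMap.congr_fun hpi₂ x
  let P₁ := LinearMap.toMatrix' (i₁ ∘ₗ p₁)
  let P₂ := LinearMap.toMatrix' (i₂ ∘ₗ p₂)
  let σ := (Fin a₂ × Fin a₁) ⊕ (Fin a₁ × Fin a₂)
  let Y : Matrix (Fin a₂) (Fin a₁) (MvPolynomial σ R) := Matrix.of fun i j ↦ X (Sum.inl (i, j))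
  let Z : Matrix (Fin a₁) (Fin a₂) (MvPolynomial σ R) := Matrix.of fun i j ↦ X (Sum.inr (i, j))
  let Q₁ := P₁.map (C (σ := σ) (R := R))
  let Q₂ := P₂.map (C (σ := σ) (R := R))
  let F := (Q₂ * Y * Q₁ * Z * Q₂ + (1 - Q₂)).det * (Q₁ * Z * Q₂ * Y * Q₁ + (1 - Q₁)).det
  let E₂ := fun (φ : M₁ →ₗ[R] M₂) (w : M₂ →ₗ[R] M₁) ↦
    i₂ ∘ₗ φ ∘ₗ w ∘ₗ p₂ + (LinearMap.id - i₂ ∘ₗ p₂)
  let E₁ := fun (φ : M₁ →ₗ[R] M₂) (w : M₂ →ₗ[R] M₁) ↦
    i₁ ∘ₗ w ∘ₗ φ ∘ₗ p₁ + (LinearMap.id - i₁ ∘ₗ p₁)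
  have heval : ∀ x : σ → R, eval x F =
      LinearMap.det (E₂ (p₂ ∘ₗ Matrix.toLin' (Y.map (eval x)) ∘ₗ i₁) (p₁ ∘ₗ Matrix.toLin' (Z.map (eval x)) ∘ₗ i₂)) *
      LinearMap.det (E₁ (p₂ ∘ₗ Matrix.toLin' (Y.map (eval x)) ∘ₗ i₁) (p₁ ∘ₗ Matrix.toLin' (Z.map (eval x)) ∘ₗ i₂)) := by
    intro x
    have hQ : ∀ {n k : ℕ} (P : Matrix (Fin n) (Fin k) R), (P.map (C (σ := σ))).map (eval x) = P :=
      fun P ↦ by ext i j; simp
    simp only [F, map_mul, RingHom.map_det, RingHom.mapMatrix_apply, Matrix.map_mul,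
      Matrix.map_add _ (map_add (eval x)), Matrix.map_sub _ (map_sub (eval x)),
      Matrix.map_one _ (map_zero (eval x)) (map_one (eval x)), hQ, Q₁, Q₂]
    rw [← LinearMap.det_toMatrix', ← LinearMap.det_toMatrix']
    simp only [E₁, E₂]
    rw [show i₂ ∘ₗ (p₂ ∘ₗ Matrix.toLin' (Y.map (eval x)) ∘ₗ i₁) ∘ₗ
          (p₁ ∘ₗ Matrix.toLin' (Z.map (eval x)) ∘ₗ i₂) ∘ₗ p₂ =
        (i₂ ∘ₗ p₂) ∘ₗ Matrix.toLin' (Y.map (eval x)) ∘ₗ (i₁ ∘ₗ p₁) ∘ₗ
          Matrix.toLin' (Z.map (eval x)) ∘ₗ (i₂ ∘ₗ p₂) from rfl,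
      show i₁ ∘ₗ (p₁ ∘ₗ Matrix.toLin' (Z.map (eval x)) ∘ₗ i₂) ∘ₗ
          (p₂ ∘ₗ Matrix.toLin' (Y.map (eval x)) ∘ₗ i₁) ∘ₗ p₁ =
        (i₁ ∘ₗ p₁) ∘ₗ Matrix.toLin' (Z.map (eval x)) ∘ₗ (i₂ ∘ₗ p₂) ∘ₗ
          Matrix.toLin' (Y.map (eval x)) ∘ₗ (i₁ ∘ₗ p₁) from rfl]
    simp only [P₁, P₂, map_add, map_sub, LinearMap.toMatrix'_id, LinearMap.toMatrix'_comp,
      LinearMap.toMatrix'_toLin', Matrix.mul_assoc]
  obtain ⟨x, hx⟩ := exists_isUnit_eval hR F fun m hm ↦ by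
    obtain ⟨φ, w, hφw, hwφ⟩ := h m
    refine ⟨Sum.elim (fun q ↦ LinearMap.toMatrix' (i₂ ∘ₗ φ ∘ₗ p₁) q.1 q.2)
      (fun q ↦ LinearMap.toMatrix' (i₁ ∘ₗ w ∘ₗ p₂) q.1 q.2), ?_⟩
    rw [heval]
    set xx : σ → R := Sum.elim (fun q ↦ LinearMap.toMatrix' (i₂ ∘ₗ φ ∘ₗ p₁) q.1 q.2)
      (fun q ↦ LinearMap.toMatrix' (i₁ ∘ₗ w ∘ₗ p₂) q.1 q.2)
    have hY : Y.map (eval xx) = LinearMap.toMatrix' (i₂ ∘ₗ φ ∘ₗ p₁) := by ext i j; simp [Y, xx]
    have hZ : Z.map (eval xx) = LinearMap.toMatrix' (i₁ ∘ₗ w ∘ₗ p₂) := by ext i j; simp [Z, xx]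
    have hφ' : p₂ ∘ₗ Matrix.toLin' (Y.map (eval xx)) ∘ₗ i₁ = φ := by
      rw [hY, Matrix.toLin'_toMatrix']; ext y; simp [h1, h2]
    have hw' : p₁ ∘ₗ Matrix.toLin' (Z.map (eval xx)) ∘ₗ i₂ = w := by
      rw [hZ, Matrix.toLin'_toMatrix']; ext y; simp [h1, h2]
    rw [hφ', hw']
    have key : ∀ {a : ℕ} (E : (Fin a → R) →ₗ[R] (Fin a → R)), (∀ v k, (E v - v) k ∈ m) →
        LinearMap.det E ∉ m := by
      intro a E hE hdet
      refine hm.ne_top ((Ideal.eq_top_iff_one m).mpr ?_)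
      rw [← Ideal.Quotient.eq_zero_iff_mem] at hdet ⊢
      rw [← hdet, ← LinearMap.det_toMatrix', RingHom.map_det,
        show (Ideal.Quotient.mk m).mapMatrix (LinearMap.toMatrix' E) = 1 from ?_, Matrix.det_one, map_one]
      ext i j
      have := hE (Pi.single j 1) i
      rw [← Ideal.Quotient.eq_zero_iff_mem, Pi.sub_apply, map_sub, sub_eq_zero] at this
      rw [RingHom.mapMatrix_apply, Matrix.map_apply, LinearMap.toMatrix'_apply, this,
        Matrix.one_apply, Pi.single_apply]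
      split_ifs <;> simp
    intro hmem
    rcases hm.isPrime.mem_or_mem hmem with hd | hd
    · refine key _ (fun v k ↦ ?_) hd
      have := apply_mem_of_one_tmul_eq_zero ((LinearMap.proj k).comp i₂) (hφw (p₂ v))
      simpa [E₂, add_sub_assoc, sub_eq_add_neg, add_comm, add_left_comm] using this
    · refine key _ (fun v k ↦ ?_) hd
      have := apply_mem_of_one_tmul_eq_zero ((LinearMap.proj k).comp i₁) (hwφ (p₁ v))
      simpa [E₁, add_sub_assoc, sub_eq_add_neg, add_comm, add_left_comm] using this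
  rw [heval, IsUnit.mul_iff] at hx
  set φ := p₂ ∘ₗ Matrix.toLin' (Y.map (eval x)) ∘ₗ i₁
  set w := p₁ ∘ₗ Matrix.toLin' (Z.map (eval x)) ∘ₗ i₂
  have b2 := ((Module.End.isUnit_iff _).mp ((LinearMap.isUnit_iff_isUnit_det _).mpr hx.1))
  have b1 := ((Module.End.isUnit_iff _).mp ((LinearMap.isUnit_iff_isUnit_det _).mpr hx.2))
  refine ⟨LinearEquiv.ofBijective φ ⟨fun y y' hyy' ↦ ?_, fun z ↦ ?_⟩⟩
  · have : E₁ φ w (i₁ y) = E₁ φ w (i₁ y') := by simp [E₁, h1, hyy']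
    rw [← h1 y, ← h1 y', b1.1 this]
  · obtain ⟨v, hv⟩ := b2.2 (i₂ z)
    refine ⟨w (p₂ v), ?_⟩
    have := congrArg p₂ hv
    simpa [E₂, h2] using this

theorem nonempty_linearEquiv_of_rankAtStalk (hR : LGRing.IsLGRing R) (M₁ : Type v) (M₂ : Type w)
    [AddCommGroup M₁] [Module R M₁] [Module.Finite R M₁] [Module.Projective R M₁]
    [AddCommGroup M₂] [Module R M₂] [Module.Finite R M₂] [Module.Projective R M₂]
    (h : ∀ (m : Ideal R) [m.IsMaximal],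
      Module.rankAtStalk (R := R) M₁ ⟨m, inferInstance⟩ = Module.rankAtStalk M₂ ⟨m, inferInstance⟩) :
    Nonempty (M₁ ≃ₗ[R] M₂) := by
  refine nonempty_linearEquiv_of_mod_maximal hR M₁ M₂ fun m hm ↦ ?_
  let : Field (R ⧸ m) := Ideal.Quotient.field m
  have hk : ∀ (M : Type v) [AddCommGroup M] [Module R M] [Module.Finite R M] [Module.Projective R M],
      Module.finrank (R ⧸ m) ((R ⧸ m) ⊗[R] M) = Module.rankAtStalk (R := R) M ⟨m, inferInstance⟩ := by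
    intro M _ _ _ _
    have := congrFun (Module.rankAtStalk_eq_finrank_of_free (R := R ⧸ m) (M := (R ⧸ m) ⊗[R] M))
      (⟨⊥, Ideal.isPrime_bot⟩ : PrimeSpectrum (R ⧸ m))
    rw [Module.rankAtStalk_baseChange] at this
    refine this.symm.trans (congrArg _ (PrimeSpectrum.ext ?_))
    change RingHom.ker (Ideal.Quotient.mk m) = m
    exact Ideal.mk_ker
  have hk' : ∀ (M : Type w) [AddCommGroup M] [Module R M] [Module.Finite R M] [Module.Projective R M],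
      Module.finrank (R ⧸ m) ((R ⧸ m) ⊗[R] M) = Module.rankAtStalk (R := R) M ⟨m, inferInstance⟩ := by
    intro M _ _ _ _
    have := congrFun (Module.rankAtStalk_eq_finrank_of_free (R := R ⧸ m) (M := (R ⧸ m) ⊗[R] M))
      (⟨⊥, Ideal.isPrime_bot⟩ : PrimeSpectrum (R ⧸ m))
    rw [Module.rankAtStalk_baseChange] at this
    refine this.symm.trans (congrArg _ (PrimeSpectrum.ext ?_))
    change RingHom.ker (Ideal.Quotient.mk m) = m
    exact Ideal.mk_ker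
  let b₁ := Module.finBasis (R ⧸ m) ((R ⧸ m) ⊗[R] M₁)
  let b₂ := Module.finBasis (R ⧸ m) ((R ⧸ m) ⊗[R] M₂)
  let ψ : (R ⧸ m) ⊗[R] M₁ ≃ₗ[R] (R ⧸ m) ⊗[R] M₂ :=
    (b₁.equiv b₂ (finCongr ((hk M₁).trans ((h m).trans (hk' M₂).symm)))).restrictScalars R
  let π₁ := TensorProduct.mk R (R ⧸ m) M₁ 1
  let π₂ := TensorProduct.mk R (R ⧸ m) M₂ 1
  have hπ₁ : Function.Surjective π₁ := TensorProduct.mk_surjective R M₁ _ Ideal.Quotient.mk_surjective
  have hπ₂ : Function.Surjective π₂ := TensorProduct.mk_surjective R M₂ _ Ideal.Quotient.mk_surjective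
  obtain ⟨φ, hφ⟩ := Module.projective_lifting_property π₂ (ψ.toLinearMap ∘ₗ π₁) hπ₂
  obtain ⟨w, hw⟩ := Module.projective_lifting_property π₁ (ψ.symm.toLinearMap ∘ₗ π₂) hπ₁
  have hφ' : ∀ x, π₂ (φ x) = ψ (π₁ x) := fun x ↦ LinearMap.congr_fun hφ x
  have hw' : ∀ x, π₁ (w x) = ψ.symm (π₂ x) := fun x ↦ LinearMap.congr_fun hw x
  refine ⟨φ, w, fun x ↦ ?_, fun x ↦ ?_⟩
  · change π₂ (φ (w x) - x) = 0
    rw [map_sub, hφ', hw', LinearEquiv.apply_symm_apply, sub_self]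
  · change π₁ (w (φ x) - x) = 0
    rw [map_sub, hw', hφ', LinearEquiv.symm_apply_apply, sub_self]

theorem free_of_rankAtStalk_const (hR : LGRing.IsLGRing R) (M : Type v) [AddCommGroup M] [Module R M]
    [Module.Finite R M] [Module.Projective R M] (d : ℕ)
    (hd : ∀ p : PrimeSpectrum R, Module.rankAtStalk M p = d) : Module.Free R M := by
  obtain ⟨e⟩ := nonempty_linearEquiv_of_rankAtStalk hR M (Fin d → R) fun m hm ↦ by
    have : Nontrivial R := ⟨0, 1, fun h01 ↦ hm.ne_top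
      ((Ideal.eq_top_iff_one m).mpr (h01 ▸ zero_mem m))⟩
    rw [hd, Module.rankAtStalk_eq_finrank_of_free]
    simp
  exact Module.Free.of_equiv e.symm

theorem nonempty_linearEquiv_of_pi (hR : LGRing.IsLGRing R)
    (M₁ M₂ : Type v) [AddCommGroup M₁] [Module R M₁] [Module.Finite R M₁] [Module.Projective R M₁]
    [AddCommGroup M₂] [Module R M₂] [Module.Finite R M₂] [Module.Projective R M₂] (n : ℕ) (hn : 0 < n)
    (e : (Fin n → M₁) ≃ₗ[R] (Fin n → M₂)) : Nonempty (M₁ ≃ₗ[R] M₂) := by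
  refine nonempty_linearEquiv_of_rankAtStalk hR M₁ M₂ fun m _ ↦ ?_
  have := congrFun (Module.rankAtStalk_eq_of_equiv e) ⟨m, inferInstance⟩
  rw [Module.rankAtStalk_pi, Module.rankAtStalk_pi, finsum_eq_sum_of_fintype, finsum_eq_sum_of_fintype,
    Finset.sum_const, Finset.sum_const, Finset.card_univ, Fintype.card_fin, smul_eq_mul, smul_eq_mul] at this
  exact Nat.eq_of_mul_eq_mul_left hn this

theorem nonempty_linearEquiv_of_tensor (hR : LGRing.IsLGRing R) (M₁ M₂ N : Type v)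
    [AddCommGroup M₁] [Module R M₁] [Module.Finite R M₁]
    [Module.Projective R M₁] [AddCommGroup M₂] [Module R M₂] [Module.Finite R M₂] [Module.Projective R M₂]
    [AddCommGroup N] [Module R N] [Module.Finite R N] [Module.Projective R N] [FaithfulSMul R N]
    (e : M₁ ⊗[R] N ≃ₗ[R] M₂ ⊗[R] N) : Nonempty (M₁ ≃ₗ[R] M₂) := by
  refine nonempty_linearEquiv_of_rankAtStalk hR M₁ M₂ fun m _ ↦ ?_
  have := congrFun (Module.rankAtStalk_eq_of_equiv e) ⟨m, inferInstance⟩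
  rw [Module.rankAtStalk_tensorProduct, Module.rankAtStalk_tensorProduct, Pi.mul_apply, Pi.mul_apply] at this
  refine Nat.eq_of_mul_eq_mul_right ?_ this
  rw [Module.rankAtStalk_pos_iff_mem_support, Module.support_eq_zeroLocus,
    Module.annihilator_eq_bot.mpr inferInstance]
  simp

theorem exists_unimodular (hR : LGRing.IsLGRing R) (M : Type v) [AddCommGroup M] [Module R M]
    [Module.Finite R M] [Module.Projective R M] [FaithfulSMul R M] :
    ∃ (m : M) (f : Module.Dual R M), f m = 1 := by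
  classical
  obtain ⟨a, p, i, -, -, hpi⟩ := Module.Finite.exists_comp_eq_id_of_projective R M
  let P := LinearMap.toMatrix' (i ∘ₗ p)
  let F : MvPolynomial (Fin a ⊕ Fin a) R :=
    ∑ j, X (Sum.inr j) * ∑ k, C (P j k) * X (Sum.inl k)
  have heval : ∀ x : Fin a ⊕ Fin a → R, eval x F =
      ∑ j, x (Sum.inr j) * i (p (x ∘ Sum.inl)) j := fun x ↦ by
    have : i (p (x ∘ Sum.inl)) = P.mulVec (x ∘ Sum.inl) := by
      rw [← Matrix.toLin'_apply, Matrix.toLin'_toMatrix']; rfl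
    simp [F, this, Matrix.mulVec, dotProduct]
  obtain ⟨x, hx⟩ := exists_isUnit_eval hR F fun m hm ↦ by
    by_contra! hall
    have hP : ∀ j k, P j k ∈ m := fun j k ↦ by
      have := hall (Sum.elim (Pi.single k 1) (Pi.single j 1))
      rw [heval] at this
      simpa [P, LinearMap.toMatrix'_apply, Pi.single_apply, Finset.sum_ite_eq] using this
    have htop : (⊤ : Submodule R M) ≤ m • ⊤ := fun y _ ↦ by
      have hy : y = p (∑ j, (i y j) • Pi.single j 1) := by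
        rw [← pi_eq_sum_univ']; exact (LinearMap.congr_fun hpi y).symm
      have hy2 : y = p (i (p (i y))) := by
        rw [show p (i y) = y from LinearMap.congr_fun hpi y]
        exact (LinearMap.congr_fun hpi y).symm
      have hmem : ∀ j, i (p (i y)) j ∈ m := fun j ↦ by
        rw [show i (p (i y)) = P.mulVec (i y) by rw [← Matrix.toLin'_apply, Matrix.toLin'_toMatrix']; rfl]
        simp only [Matrix.mulVec, dotProduct]
        exact Ideal.sum_mem _ fun k _ ↦ Ideal.mul_mem_right _ _ (hP j k)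
      rw [hy2, pi_eq_sum_univ' (i (p (i y))), map_sum]
      refine Submodule.sum_mem _ fun j _ ↦ ?_
      rw [map_smul]
      exact Submodule.smul_mem_smul (hmem j) Submodule.mem_top
    obtain ⟨r, hr1, hr⟩ := Submodule.exists_sub_one_mem_and_smul_eq_zero_of_fg_of_le_smul m ⊤
      Module.Finite.fg_top htop
    have : r = 0 := FaithfulSMul.eq_of_smul_eq_smul (α := M) fun y ↦ by
      rw [hr y Submodule.mem_top, zero_smul]
    rw [this, zero_sub, neg_mem_iff] at hr1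
    exact hm.ne_top ((Ideal.eq_top_iff_one m).mpr hr1)
  obtain ⟨u, hu⟩ := hx
  refine ⟨p (x ∘ Sum.inl), (↑u⁻¹ : R) • ((∑ j, x (Sum.inr j) • (LinearMap.proj j : (Fin a → R) →ₗ[R] R)) ∘ₗ i), ?_⟩
  have h0 : ((∑ j, x (Sum.inr j) • (LinearMap.proj j : (Fin a → R) →ₗ[R] R)) ∘ₗ i) (p (x ∘ Sum.inl)) = (u : R) := by
    rw [hu, heval]; simp
  rw [LinearMap.smul_apply, h0, smul_eq_mul, Units.inv_mul]

end Groth.Agent.LGRingLib
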